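import Mathlib

/-!
Local rings of normal curves over a scheme: discrete valuation rings essentially of finite type.
-/

set_option autoImplicit false
set_option linter.style.haveILetI false
universe u

open CategoryTheory AlgebraicGeometry

namespace Groth.Agent.ValCritLib.CurveDvr

theorem isDiscreteValuationRing_stalk {C : Scheme.{u}} [IsIntegral C] [IsLocallyNoetherian C]
    (c : C) (hn : IsIntegrallyClosed (C.presheaf.stalk c))
    (hdim : ringKrullDim (C.presheaf.stalk c) = 1) :
    IsDiscreteValuationRing (C.presheaf.stalk c) := by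
  haveI : Ring.KrullDimLE 1 (C.presheaf.stalk c) := (Ring.krullDimLE_iff).mpr hdim.le
  have hnf : ¬ IsField (C.presheaf.stalk c) := fun hF => by
    rw [ringKrullDim_eq_zero_of_isField hF] at hdim
    exact zero_ne_one hdim
  haveI : IsPrincipalIdealRing (C.presheaf.stalk c) :=
    ((tfae_of_isNoetherianRing_of_isLocalRing_of_isDomain (R := C.presheaf.stalk c)).out 3 0
      (a := IsIntegrallyClosed (C.presheaf.stalk c) ∧ ∀ P : Ideal (C.presheaf.stalk c), P ≠ ⊥ →
        P.IsPrime → P = IsLocalRing.maximalIdeal _)).mp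
      ⟨hn, fun P hP0 hP => IsLocalRing.eq_maximalIdeal (hP.isMaximal_of_ne_bot hP0)⟩
  exact
    { not_a_field' := fun h => hnf (IsLocalRing.isField_iff_maximalIdeal_eq.mpr h) }

theorem exists_essFiniteType_factor {C S : Scheme.{u}} (r : C ⟶ S) [LocallyOfFiniteType r] (c : C) :
    ∃ (U : S.affineOpens) (φ : Γ(S, U.1) ⟶ C.presheaf.stalk c),
      Spec.map φ ≫ U.2.fromSpec = C.fromSpecStalk c ≫ r ∧ φ.hom.EssFiniteType := by
  obtain ⟨U, hU, hcU, -⟩ := exists_isAffineOpen_mem_and_subset (X := S) (x := r c) (U := ⊤) trivial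
  obtain ⟨V, hV, hcV, hVU⟩ := exists_isAffineOpen_mem_and_subset (X := C) (x := c) (U := r ⁻¹ᵁ U) hcU
  refine ⟨⟨U, hU⟩, r.appLE U V hVU ≫ C.presheaf.germ V c hcV, ?_, ?_⟩
  · rw [Spec.map_comp, Category.assoc, hU.SpecMap_appLE_fromSpec r hV hVU, ← Category.assoc,
      ← hV.fromSpecStalk_eq_fromSpecStalk hcV]
    rfl
  · refine RingHom.EssFiniteType.comp (RingHom.FiniteType.essFiniteType
      (r.finiteType_appLE hU hV hVU)) ?_
    letI := C.presheaf.algebra_section_stalk ⟨c, hcV⟩
    haveI := hV.isLocalization_stalk ⟨c, hcV⟩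
    show (algebraMap Γ(C, V) (C.presheaf.stalk c)).EssFiniteType
    rw [RingHom.essFiniteType_algebraMap]
    exact Algebra.EssFiniteType.of_isLocalization _ (hV.primeIdealOf ⟨c, hcV⟩).asIdeal.primeCompl

end Groth.Agent.ValCritLib.CurveDvr
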