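import Mathlib.AlgebraicGeometry.Stalk
import Mathlib.AlgebraicGeometry.ResidueField
import Mathlib.RingTheory.Valuation.LocalSubring

/-!
# Morphisms from spectra of local rings
-/

set_option autoImplicit false
set_option backward.isDefEq.respectTransparency.types false
set_option linter.style.haveILetI false

universe u

open CategoryTheory AlgebraicGeometry IsLocalRing

namespace Groth.Agent.ValCritLib

variable {X Y : Scheme.{u}} {A B : Type u} [CommRing A] [IsLocalRing A] [CommRing B]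

theorem closed_mem (f : Spec (CommRingCat.of A) ⟶ X) {W : X.Opens} (h : f (closedPoint A) ∈ W)
    (q : Spec (CommRingCat.of A)) : f q ∈ W :=
  ((IsLocalRing.specializes_closedPoint q).map f.continuous).mem_open W.2 h

/-- A morphism from a local ring sending the closed point into an affine open comes from a ring map. -/
theorem exists_ringHom {W : X.Opens} (hW : IsAffineOpen W) (f : Spec (CommRingCat.of A) ⟶ X)
    (h : f (closedPoint A) ∈ W) : ∃ a : Γ(X, W) ⟶ CommRingCat.of A, f = Spec.map a ≫ hW.fromSpec := by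
  have hr : Set.range f ⊆ Set.range hW.fromSpec := by
    rintro _ ⟨q, rfl⟩
    rw [hW.range_fromSpec]
    exact closed_mem f h q
  obtain ⟨a, ha⟩ := Spec.map_surjective (IsOpenImmersion.lift hW.fromSpec f hr)
  exact ⟨a, by rw [ha]; exact (IsOpenImmersion.lift_fac _ _ hr).symm⟩

theorem eq_ringHom {W : X.Opens} (hW : IsAffineOpen W) {S : CommRingCat.{u}} {a b : Γ(X, W) ⟶ S}
    (h : Spec.map a ≫ hW.fromSpec = Spec.map b ≫ hW.fromSpec) : a = b :=
  Spec.map_injective ((cancel_mono hW.fromSpec).1 h)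

/-- Two morphisms from a local ring with the same closed point, agreeing after an injection, are equal. -/
theorem ext (j : CommRingCat.of A ⟶ CommRingCat.of B) (hj : Function.Injective j.hom)
    {f g : Spec (CommRingCat.of A) ⟶ X} (hc : f (closedPoint A) = g (closedPoint A))
    (h : Spec.map j ≫ f = Spec.map j ≫ g) : f = g := by
  obtain ⟨_, ⟨W, hW, rfl⟩, hm, -⟩ :=
    X.isBasis_affineOpens.exists_subset_of_mem_open (Set.mem_univ (f (closedPoint A))) isOpen_univ
  obtain ⟨a, rfl⟩ := exists_ringHom hW f hm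
  obtain ⟨b, rfl⟩ := exists_ringHom hW g (hc ▸ hm)
  rw [← Spec.map_comp_assoc, ← Spec.map_comp_assoc] at h
  have := eq_ringHom hW h
  congr 2
  ext x
  exact hj (ConcreteCategory.congr_hom this x)

theorem map_closedPoint {A' : Type u} [CommRing A'] [IsLocalRing A'] (ρ : A →+* A') [IsLocalHom ρ]
    {f : Spec (CommRingCat.of A) ⟶ X} :
    (Spec.map (CommRingCat.ofHom ρ) ≫ f) (closedPoint A') = f (closedPoint A) := by
  rw [Scheme.Hom.comp_apply]
  exact congrArg f (IsLocalRing.comap_closedPoint ρ)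

/-- Restriction of a valuation ring to a subfield: unique descent of morphisms. -/
theorem existsUnique_descent {K : Type u} [Field K] (R : ValuationSubring K) (φ : Spec (CommRingCat.of R) ⟶ X)
    {k : Type u} [Field k] (g : k →+* K)
    (c : Spec (CommRingCat.of k) ⟶ X) (ρ : (R.comap g : ValuationSubring k) →+* R)
    (hρ : ∀ x : (R.comap g : ValuationSubring k), ((ρ x : R) : K) = g x)
    (w : Spec.map (CommRingCat.ofHom R.subtype) ≫ φ = Spec.map (CommRingCat.ofHom g) ≫ c) :
    ∃! φ' : Spec (CommRingCat.of (R.comap g : ValuationSubring k)) ⟶ X,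
      Spec.map (CommRingCat.ofHom ρ) ≫ φ' = φ ∧
      Spec.map (CommRingCat.ofHom (R.comap g).subtype) ≫ φ' = c := by
  haveI : IsLocalHom ρ := ⟨fun x hx => by
    obtain ⟨y, hy⟩ := hx.exists_right_inv
    have h1 : g x * (y : K) = 1 := by
      rw [← hρ x]
      exact congrArg Subtype.val hy
    have h2 : (x : k) ≠ 0 := fun h => by simp [h] at h1
    have h3 : (x : k)⁻¹ ∈ R.comap g := by
      rw [ValuationSubring.mem_comap, map_inv₀, inv_eq_of_mul_eq_one_right h1]
      exact y.2
    exact IsUnit.of_mul_eq_one ⟨(x : k)⁻¹, h3⟩ (Subtype.ext (mul_inv_cancel₀ h2))⟩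
  obtain ⟨_, ⟨W, hW, rfl⟩, hm, -⟩ :=
    X.isBasis_affineOpens.exists_subset_of_mem_open (Set.mem_univ (φ (closedPoint R))) isOpen_univ
  obtain ⟨a, ha⟩ := exists_ringHom hW φ hm
  have hk : c (closedPoint k) ∈ W := by
    have h1 : (Spec.map (CommRingCat.ofHom g) ≫ c) (closedPoint K) ∈ W := by
      rw [← w, Scheme.Hom.comp_apply]
      exact closed_mem φ hm _
    rwa [map_closedPoint] at h1
  obtain ⟨b, hb⟩ := exists_ringHom hW c hk
  have hab : a ≫ CommRingCat.ofHom R.subtype = b ≫ CommRingCat.ofHom g := by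
    refine eq_ringHom hW ?_
    rw [Spec.map_comp_assoc, Spec.map_comp_assoc, ← ha, ← hb]
    exact w
  have hmem : ∀ x, b.hom x ∈ R.comap g := fun x => by
    rw [ValuationSubring.mem_comap]
    have := ConcreteCategory.congr_hom hab x
    exact (show (a.hom x : K) = g (b.hom x) from this) ▸ (a.hom x).2
  let a' : Γ(X, W) ⟶ CommRingCat.of (R.comap g : ValuationSubring k) :=
    CommRingCat.ofHom (b.hom.codRestrict (R.comap g).toSubring hmem)
  refine ⟨Spec.map a' ≫ hW.fromSpec, ⟨?_, ?_⟩, fun φ' ⟨h1, h2⟩ => ?_⟩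
  · rw [← Spec.map_comp_assoc, ha]
    congr 2
    ext x
    exact (hρ (a'.hom x)).trans (ConcreteCategory.congr_hom hab x).symm
  · rw [← Spec.map_comp_assoc, hb]
    rfl
  · have hc : φ' (closedPoint (R.comap g : ValuationSubring k)) ∈ W := by
      rw [← map_closedPoint ρ (f := φ'), h1]; exact hm
    obtain ⟨a₂, rfl⟩ := exists_ringHom hW φ' hc
    rw [← Spec.map_comp_assoc, hb] at h2
    have := eq_ringHom hW h2
    congr 2
    ext x
    exact ConcreteCategory.congr_hom this x

theorem existsUnique_glue (f : Y ⟶ X) {K : Type u} [Field K] (R R' : ValuationSubring K) (hRR' : R ≤ R')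
    (ι : R →+* R') (hι : ∀ x : R, ((ι x : R') : K) = (x : K))
    (i : Spec (CommRingCat.of K) ⟶ Y) (φ : Spec (CommRingCat.of R) ⟶ X)
    (w : Spec.map (CommRingCat.ofHom R.subtype) ≫ φ = i ≫ f)
    (g : Spec (CommRingCat.of R') ⟶ Y) (hg₁ : Spec.map (CommRingCat.ofHom R'.subtype) ≫ g = i)
    (Rt : ValuationSubring (IsLocalRing.ResidueField R')) (σ : R →+* Rt) (hσs : Function.Surjective σ)
    (hσ : ∀ x : R, ((σ x : Rt) : IsLocalRing.ResidueField R') = IsLocalRing.residue R' (ι x))
    (ht : Spec (CommRingCat.of Rt) ⟶ Y)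
    (hht₁ : Spec.map (CommRingCat.ofHom Rt.subtype) ≫ ht =
      Spec.map (CommRingCat.ofHom (IsLocalRing.residue R')) ≫ g)
    (hht₂ : ht ≫ f = Spec.map (CommRingCat.ofHom σ) ≫ φ) :
    ∃! h : Spec (CommRingCat.of R) ⟶ Y, Spec.map (CommRingCat.ofHom R.subtype) ≫ h = i ∧ h ≫ f = φ ∧
      Spec.map (CommRingCat.ofHom ι) ≫ h = g ∧ Spec.map (CommRingCat.ofHom σ) ≫ h = ht := by
  haveI : IsLocalHom σ := IsLocalHom.of_surjective σ hσs
  obtain ⟨_, ⟨W, hW, rfl⟩, hm, -⟩ :=
    Y.isBasis_affineOpens.exists_subset_of_mem_open (Set.mem_univ (ht (closedPoint Rt))) isOpen_univ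
  obtain ⟨c, hc⟩ := exists_ringHom hW ht hm
  have hgm : g (closedPoint R') ∈ W := by
    have h1 : (Spec.map (CommRingCat.ofHom (IsLocalRing.residue R')) ≫ g)
        (closedPoint (IsLocalRing.ResidueField R')) ∈ W := by
      rw [← hht₁, Scheme.Hom.comp_apply]
      exact closed_mem ht hm _
    rwa [map_closedPoint] at h1
  obtain ⟨b, hb⟩ := exists_ringHom hW g hgm
  have hbc : ∀ x, (c.hom x : IsLocalRing.ResidueField R') = IsLocalRing.residue R' (b.hom x) := by
    have : c ≫ CommRingCat.ofHom Rt.subtype = b ≫ CommRingCat.ofHom (IsLocalRing.residue R') := by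
      refine eq_ringHom hW ?_
      rw [Spec.map_comp_assoc, Spec.map_comp_assoc, ← hc, ← hb]
      exact hht₁
    exact fun x => ConcreteCategory.congr_hom this x
  have hmax : ∀ m : R', ¬ IsUnit m → (m : K) ∈ R := by
    intro m hm
    rcases R.mem_or_inv_mem (m : K) with h | h
    · exact h
    · by_cases h0 : (m : K) = 0
      · rw [h0]; exact R.zero_mem
      · exact absurd (IsUnit.of_mul_eq_one (⟨(m : K)⁻¹, hRR' h⟩ : R') (Subtype.ext (mul_inv_cancel₀ h0))) hm
  have hmem : ∀ x, ((b.hom x : R') : K) ∈ R := fun x => by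
    obtain ⟨r, hr⟩ := hσs (c.hom x)
    have h0 : ¬ IsUnit (b.hom x - ι r) := by
      have : IsLocalRing.residue R' (b.hom x - ι r) = 0 := by
        rw [map_sub, ← hbc, ← hσ, hr, sub_self]
      exact (IsLocalRing.residue_eq_zero_iff _).1 this
    have h1 := R.add_mem _ _ (hmax _ h0) r.2
    have h2 : ((b.hom x - ι r : R') : K) + (r : K) = (b.hom x : K) := by
      rw [← hι r]; push_cast; ring
    rwa [h2] at h1
  let a : Γ(Y, W) ⟶ CommRingCat.of R :=
    CommRingCat.ofHom ((R'.subtype.comp b.hom).codRestrict R.toSubring hmem)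
  have hab : a ≫ CommRingCat.ofHom ι = b := by
    ext x
    exact hι _
  have hac : a ≫ CommRingCat.ofHom σ = c := by
    ext x
    refine (hσ _).trans ?_
    rw [hbc]
    exact congrArg _ (ConcreteCategory.congr_hom hab x)
  have hai : Spec.map (CommRingCat.ofHom R.subtype) ≫ Spec.map a ≫ hW.fromSpec = i := by
    rw [← hg₁, hb, ← Spec.map_comp_assoc, ← Spec.map_comp_assoc]
    rfl
  refine ⟨Spec.map a ≫ hW.fromSpec, ⟨hai, ?_, ?_, ?_⟩, fun h' ⟨h1, _, _, h4⟩ => ?_⟩
  · refine ext (CommRingCat.ofHom R.subtype) Subtype.val_injective ?_ ?_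
    · rw [← map_closedPoint σ, ← map_closedPoint σ (f := φ), ← hht₂, ← Category.assoc (Spec.map _),
        ← Spec.map_comp_assoc, hac, ← hc]
    · rw [← Category.assoc, hai, w]
  · rw [← Spec.map_comp_assoc, hab, ← hb]
  · rw [← Spec.map_comp_assoc, hac, ← hc]
  · refine ext (CommRingCat.ofHom R.subtype) Subtype.val_injective ?_ (h1.trans hai.symm)
    rw [← map_closedPoint σ, ← map_closedPoint σ (f := Spec.map a ≫ hW.fromSpec), h4,
      ← Spec.map_comp_assoc, hac, ← hc]

end Groth.Agent.ValCritLib
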