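import Groth.Agent.ValCritLib.Local
import Groth.Agent.AlgSpB.Art.CompositeVal
import Groth.Agent.SchPoints.Basic
import Mathlib.AlgebraicGeometry.ValuativeCriterion

/-!
# The valuative criterion tested through a dominant morphism
-/

set_option autoImplicit false
set_option backward.isDefEq.respectTransparency.types false
set_option linter.style.haveILetI false

universe u

open CategoryTheory CategoryTheory.Limits AlgebraicGeometry IsLocalRing

namespace Groth.Agent.ValCritLib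

open Groth.Agent.AlgSpB.Art

variable {X Y Z : Scheme.{u}} (h : Z ⟶ Y) (f : Y ⟶ X)

/-- Uniqueness of lifts at the points of the test scheme. -/
def RefUniq : Prop :=
  ∀ (z : Z) (R : ValuationSubring (Z.residueField z)) (φ : Spec (CommRingCat.of R) ⟶ X),
    Spec.map (CommRingCat.ofHom R.subtype) ≫ φ = Z.fromSpecResidueField z ≫ h ≫ f →
    ∀ φ₁ φ₂ : Spec (CommRingCat.of R) ⟶ Y,
      Spec.map (CommRingCat.ofHom R.subtype) ≫ φ₁ = Z.fromSpecResidueField z ≫ h → φ₁ ≫ f = φ →
      Spec.map (CommRingCat.ofHom R.subtype) ≫ φ₂ = Z.fromSpecResidueField z ≫ h → φ₂ ≫ f = φ →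
      φ₁ = φ₂

/-- Existence of lifts at the points of the test scheme. -/
def RefExist : Prop :=
  ∀ (z : Z) (R : ValuationSubring (Z.residueField z)) (φ : Spec (CommRingCat.of R) ⟶ X),
    Spec.map (CommRingCat.ofHom R.subtype) ≫ φ = Z.fromSpecResidueField z ≫ h ≫ f →
    ∃ φ' : Spec (CommRingCat.of R) ⟶ Y,
      Spec.map (CommRingCat.ofHom R.subtype) ≫ φ' = Z.fromSpecResidueField z ≫ h ∧ φ' ≫ f = φ

/-- A valuation ring of a point of the test scheme centred at a given point. -/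
theorem exists_centred [QuasiCompact h] (hd : DenseRange h.base) (y : Y) :
    ∃ (z : Z) (V : ValuationSubring (Z.residueField z)) (g : Spec (CommRingCat.of V) ⟶ Y)
      (j : Y.residueField y →+* IsLocalRing.ResidueField V),
      Spec.map (CommRingCat.ofHom V.subtype) ≫ g = Z.fromSpecResidueField z ≫ h ∧
      Spec.map (CommRingCat.ofHom (IsLocalRing.residue V)) ≫ g =
        Spec.map (CommRingCat.ofHom j) ≫ Y.fromSpecResidueField y := by
  obtain ⟨z, hz⟩ := SchPoints.exists_specializes_of_mem_closure_range h (hd y)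
  let ψ : Y.presheaf.stalk y ⟶ Z.residueField z :=
    Y.presheaf.stalkSpecializes hz ≫ Y.residue (h z) ≫ h.residueFieldMap z
  obtain ⟨V, hV, hloc⟩ := IsLocalRing.exists_factor_valuationRing ψ.hom
  let ψ₁ : Y.presheaf.stalk y →+* V := ψ.hom.codRestrict V.toSubring hV
  haveI : IsLocalHom ψ₁ := hloc
  refine ⟨z, V, Spec.map (CommRingCat.ofHom ψ₁) ≫ Y.fromSpecStalk y,
    IsLocalRing.ResidueField.map ψ₁, ?_, ?_⟩
  · rw [← Spec.map_comp_assoc, ← h.SpecMap_residueFieldMap_fromSpecResidueField]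
    show Spec.map ψ ≫ _ = _
    simp only [ψ, Spec.map_comp, Category.assoc, Scheme.SpecMap_stalkSpecializes_fromSpecStalk]
    rfl
  · rw [← Spec.map_comp_assoc, Scheme.fromSpecResidueField, ← Spec.map_comp_assoc]
    rfl

theorem exists_valuationSubring_comap {k L : Type u} [Field k] [Field L] (j : k →+* L)
    (R : ValuationSubring k) : ∃ Rt : ValuationSubring L, Rt.comap j = R := by
  obtain ⟨Rt, hRt, hloc⟩ := IsLocalRing.exists_factor_valuationRing (j.comp R.subtype)
  refine ⟨Rt, ?_⟩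
  ext x
  refine ⟨fun hx => ?_, fun hx => hRt ⟨x, hx⟩⟩
  rcases R.mem_or_inv_mem x with hR | hR
  · exact hR
  · by_cases h0 : x = 0
    · rw [h0]; exact R.zero_mem
    · have hu : IsUnit (⟨x⁻¹, hR⟩ : R) := hloc.map_nonunit _
        (IsUnit.of_mul_eq_one ⟨j x, hx⟩ (Subtype.ext
          (show j x⁻¹ * j x = 1 by rw [← map_mul, inv_mul_cancel₀ h0, map_one])))
      obtain ⟨c, hc⟩ := hu.exists_right_inv
      have h1 : x⁻¹ * (c : k) = 1 := congrArg Subtype.val hc
      have h2 : (c : k) = x := by rw [← inv_inv x]; exact (inv_eq_of_mul_eq_one_right h1).symm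
      exact h2 ▸ c.2

/-- The restriction to a subfield, into the valuation ring. -/
def comapMap {k L : Type u} [Field k] [Field L] (Rt : ValuationSubring L) (j : k →+* L) :
    (Rt.comap j : ValuationSubring k) →+* Rt :=
  (j.comp (Rt.comap j).subtype).codRestrict Rt.toSubring fun x => x.2

theorem comapMap_injective {k L : Type u} [Field k] [Field L] (Rt : ValuationSubring L) (j : k →+* L) :
    Function.Injective (comapMap Rt j) := fun a b h =>
  Subtype.ext (j.injective (congrArg Subtype.val h))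

instance comapMap_isLocalHom {k L : Type u} [Field k] [Field L] (Rt : ValuationSubring L) (j : k →+* L) :
    IsLocalHom (comapMap Rt j) := ⟨fun x hx => by
  obtain ⟨y, hy⟩ := hx.exists_right_inv
  have h1 : j x * (y : L) = 1 := congrArg Subtype.val hy
  have h2 : (x : k) ≠ 0 := fun h => by simp [h] at h1
  have h3 : (x : k)⁻¹ ∈ Rt.comap j := by
    rw [ValuationSubring.mem_comap, map_inv₀, inv_eq_of_mul_eq_one_right h1]
    exact y.2
  exact IsUnit.of_mul_eq_one ⟨(x : k)⁻¹, h3⟩ (Subtype.ext (mul_inv_cancel₀ h2))⟩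

theorem comapMap_comp {k L : Type u} [Field k] [Field L] (Rt : ValuationSubring L) (j : k →+* L) :
    Spec.map (CommRingCat.ofHom Rt.subtype) ≫ Spec.map (CommRingCat.ofHom (comapMap Rt j)) =
      Spec.map (CommRingCat.ofHom j) ≫ Spec.map (CommRingCat.ofHom (Rt.comap j).subtype) := by
  rw [← Spec.map_comp, ← Spec.map_comp]
  rfl

theorem exists_sigma {Ω : Type u} [Field Ω] (V : ValuationSubring Ω)
    (Rt : ValuationSubring (IsLocalRing.ResidueField V)) :
    ∃ σ : compositeVal V Rt →+* Rt, Function.Surjective σ ∧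
      ∀ x : compositeVal V Rt, ((σ x : Rt) : IsLocalRing.ResidueField V) =
        IsLocalRing.residue V (ValuationSubring.inclusion _ V (compositeVal_le V Rt) x) := by
  refine ⟨(((IsLocalRing.residue V).comp (ValuationSubring.inclusion _ V (compositeVal_le V Rt)))).codRestrict
    Rt.toSubring ?_, ?_, fun _ => rfl⟩
  · rintro ⟨_, x, hx, rfl⟩
    exact hx
  · rintro ⟨c, hc⟩
    obtain ⟨x, rfl⟩ := IsLocalRing.residue_surjective c
    exact ⟨⟨x, mem_compositeVal V Rt hc⟩, rfl⟩

/-- Gluing without a base. -/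
theorem exists_glue {T : Scheme.{u}} {K : Type u} [Field K] (V : ValuationSubring K)
    (Rt : ValuationSubring (IsLocalRing.ResidueField V)) (σ : compositeVal V Rt →+* Rt)
    (hσs : Function.Surjective σ)
    (hσ : ∀ x : compositeVal V Rt, ((σ x : Rt) : IsLocalRing.ResidueField V) =
        IsLocalRing.residue V (ValuationSubring.inclusion _ V (compositeVal_le V Rt) x))
    (g : Spec (CommRingCat.of V) ⟶ T) (t : Spec (CommRingCat.of Rt) ⟶ T)
    (w : Spec.map (CommRingCat.ofHom Rt.subtype) ≫ t =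
      Spec.map (CommRingCat.ofHom (IsLocalRing.residue V)) ≫ g) :
    ∃ l : Spec (CommRingCat.of (compositeVal V Rt)) ⟶ T,
      Spec.map (CommRingCat.ofHom (compositeVal V Rt).subtype) ≫ l =
        Spec.map (CommRingCat.ofHom V.subtype) ≫ g ∧
      Spec.map (CommRingCat.ofHom (ValuationSubring.inclusion _ V (compositeVal_le V Rt))) ≫ l = g ∧
      Spec.map (CommRingCat.ofHom σ) ≫ l = t := by
  obtain ⟨l, ⟨h1, _, h3, h4⟩, -⟩ := existsUnique_glue (terminal.from T) (compositeVal V Rt) V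
    (compositeVal_le V Rt) (ValuationSubring.inclusion _ V (compositeVal_le V Rt)) (fun _ => rfl)
    (Spec.map (CommRingCat.ofHom V.subtype) ≫ g) (terminal.from _) (terminal.hom_ext _ _)
    g rfl Rt σ hσs hσ t w (terminal.hom_ext _ _)
  exact ⟨l, h1, h3, h4⟩

/-- The data above a point. -/
theorem exists_test [QuasiCompact h] (hd : DenseRange h.base) (y : Y) (R : ValuationSubring (Y.residueField y))
    (φ : Spec (CommRingCat.of R) ⟶ X)
    (w : Spec.map (CommRingCat.ofHom R.subtype) ≫ φ = Y.fromSpecResidueField y ≫ f) :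
    ∃ (z : Z) (V : ValuationSubring (Z.residueField z)) (Rt : ValuationSubring (IsLocalRing.ResidueField V))
      (g : Spec (CommRingCat.of V) ⟶ Y) (j : Y.residueField y →+* IsLocalRing.ResidueField V)
      (e : Rt.comap j = R) (φ₂ : Spec (CommRingCat.of (compositeVal V Rt)) ⟶ X)
      (σ : compositeVal V Rt →+* Rt),
      Function.Surjective σ ∧
      (∀ x : compositeVal V Rt, ((σ x : Rt) : IsLocalRing.ResidueField V) =
        IsLocalRing.residue V (ValuationSubring.inclusion _ V (compositeVal_le V Rt) x)) ∧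
      Spec.map (CommRingCat.ofHom V.subtype) ≫ g = Z.fromSpecResidueField z ≫ h ∧
      Spec.map (CommRingCat.ofHom (IsLocalRing.residue V)) ≫ g =
        Spec.map (CommRingCat.ofHom j) ≫ Y.fromSpecResidueField y ∧
      Spec.map (CommRingCat.ofHom (compositeVal V Rt).subtype) ≫ φ₂ = Z.fromSpecResidueField z ≫ h ≫ f ∧
      Spec.map (CommRingCat.ofHom (ValuationSubring.inclusion _ V (compositeVal_le V Rt))) ≫ φ₂ = g ≫ f ∧
      Spec.map (CommRingCat.ofHom σ) ≫ φ₂ =
        (Spec.map (CommRingCat.ofHom (comapMap Rt j)) ≫ (e.symm ▸ φ :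
          Spec (CommRingCat.of (Rt.comap j : ValuationSubring (Y.residueField y))) ⟶ X)) := by
  obtain ⟨z, V, g, j, hg, hj⟩ := exists_centred h hd y
  obtain ⟨Rt, rfl⟩ := exists_valuationSubring_comap j R
  obtain ⟨σ, hσs, hσ⟩ := exists_sigma V Rt
  obtain ⟨φ₂, h1, h2, h3⟩ := exists_glue V Rt σ hσs hσ (g ≫ f)
    (Spec.map (CommRingCat.ofHom (comapMap Rt j)) ≫ φ) (by
      rw [reassoc_of% (comapMap_comp Rt j), w, reassoc_of% hj])
  exact ⟨z, V, Rt, g, j, rfl, φ₂, σ, hσs, hσ, hg, hj, by rw [h1, reassoc_of% hg], h2, h3⟩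

theorem eq_at_point [QuasiCompact h] (hd : DenseRange h.base) (hU : RefUniq h f) (y : Y)
    (R : ValuationSubring (Y.residueField y)) (l₁ l₂ : Spec (CommRingCat.of R) ⟶ Y)
    (h₁ : Spec.map (CommRingCat.ofHom R.subtype) ≫ l₁ = Y.fromSpecResidueField y)
    (h₂ : Spec.map (CommRingCat.ofHom R.subtype) ≫ l₂ = Y.fromSpecResidueField y)
    (he : l₁ ≫ f = l₂ ≫ f) : l₁ = l₂ := by
  obtain ⟨z, V, Rt, g, j, e, φ₂, σ, hσs, hσ, hg, hj, hφgen, hφg, hφσ⟩ :=
    exists_test h f hd y R (l₁ ≫ f) (by rw [reassoc_of% h₁])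
  subst e
  have key : ∀ l : Spec (CommRingCat.of (Rt.comap j : ValuationSubring (Y.residueField y))) ⟶ Y,
      Spec.map (CommRingCat.ofHom (Rt.comap j).subtype) ≫ l = Y.fromSpecResidueField y → l ≫ f = l₁ ≫ f →
      ∃ L, Spec.map (CommRingCat.ofHom (compositeVal V Rt).subtype) ≫ L = Z.fromSpecResidueField z ≫ h ∧
        L ≫ f = φ₂ ∧ Spec.map (CommRingCat.ofHom σ) ≫ L = Spec.map (CommRingCat.ofHom (comapMap Rt j)) ≫ l := by
    intro l hl hlf
    obtain ⟨L, ⟨hL1, hL2, _, hL4⟩, -⟩ := existsUnique_glue f (compositeVal V Rt) V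
      (compositeVal_le V Rt) (ValuationSubring.inclusion _ V (compositeVal_le V Rt)) (fun _ => rfl)
      (Z.fromSpecResidueField z ≫ h) φ₂ (by rw [hφgen, Category.assoc]) g hg Rt σ hσs hσ
      (Spec.map (CommRingCat.ofHom (comapMap Rt j)) ≫ l)
      (by rw [reassoc_of% (comapMap_comp Rt j), hl, hj])
      (by rw [Category.assoc, hlf]; exact hφσ.symm)
    exact ⟨L, hL1, hL2, hL4⟩
  obtain ⟨L₁, a1, b1, c1⟩ := key l₁ h₁ rfl
  obtain ⟨L₂, a2, b2, c2⟩ := key l₂ h₂ he.symm
  have hL : L₁ = L₂ := hU z _ φ₂ hφgen L₁ L₂ a1 b1 a2 b2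
  have h3 : Spec.map (CommRingCat.ofHom (comapMap Rt j)) ≫ l₁ =
      Spec.map (CommRingCat.ofHom (comapMap Rt j)) ≫ l₂ := by rw [← c1, ← c2, hL]
  refine ext (CommRingCat.ofHom (comapMap Rt j)) (comapMap_injective Rt j) ?_ h3
  rw [← map_closedPoint (comapMap Rt j), h3, map_closedPoint]

theorem exists_at_point [QuasiCompact h] (hd : DenseRange h.base) (hU : RefUniq h f) (hE : RefExist h f)
    (y : Y) (R : ValuationSubring (Y.residueField y)) (φ : Spec (CommRingCat.of R) ⟶ X)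
    (w : Spec.map (CommRingCat.ofHom R.subtype) ≫ φ = Y.fromSpecResidueField y ≫ f) :
    ∃ l : Spec (CommRingCat.of R) ⟶ Y,
      Spec.map (CommRingCat.ofHom R.subtype) ≫ l = Y.fromSpecResidueField y ∧ l ≫ f = φ := by
  obtain ⟨z, V, Rt, g, j, e, φ₂, σ, hσs, hσ, hg, hj, hφgen, hφg, hφσ⟩ := exists_test h f hd y R φ w
  subst e
  obtain ⟨L, hL1, hL2⟩ := hE z _ φ₂ hφgen
  have hLg : Spec.map (CommRingCat.ofHom (ValuationSubring.inclusion _ V (compositeVal_le V Rt))) ≫ L = g := by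
    refine hU z V (g ≫ f) (by rw [reassoc_of% hg]) _ _ ?_ (by rw [Category.assoc, hL2, hφg]) hg rfl
    rw [← Spec.map_comp_assoc, ← hL1]
    rfl
  obtain ⟨l, ⟨hl1, hl2⟩, -⟩ := existsUnique_descent Rt (Spec.map (CommRingCat.ofHom σ) ≫ L) j
    (Y.fromSpecResidueField y) (comapMap Rt j) (fun _ => rfl) (by
      rw [← hj, ← hLg, ← Spec.map_comp_assoc, ← Spec.map_comp_assoc]
      congr 2
      ext x
      exact hσ x)
  refine ⟨l, hl2, ?_⟩
  have h3 : Spec.map (CommRingCat.ofHom (comapMap Rt j)) ≫ l ≫ f =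
      Spec.map (CommRingCat.ofHom (comapMap Rt j)) ≫ φ := by
    rw [reassoc_of% hl1, hL2]; exact hφσ
  refine ext (CommRingCat.ofHom (comapMap Rt j)) (comapMap_injective Rt j) ?_ h3
  rw [← map_closedPoint (comapMap Rt j), h3, map_closedPoint]

/-- Passing from a square to the residue field of its generic point. -/
theorem exists_point_square (S : ValuativeCommSq f) :
    ∃ (y : Y) (R : ValuationSubring (Y.residueField y)) (ρ : R →+* S.R) (φ : Spec (CommRingCat.of R) ⟶ X),
      Spec.map (CommRingCat.ofHom R.subtype) ≫ φ = Y.fromSpecResidueField y ≫ f ∧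
      Spec.map (CommRingCat.ofHom ρ) ≫ φ = S.i₂ ∧
      (∀ l : Spec (CommRingCat.of R) ⟶ Y,
        Spec.map (CommRingCat.ofHom R.subtype) ≫ l = Y.fromSpecResidueField y →
          Spec.map (CommRingCat.ofHom (algebraMap S.R S.K)) ≫ Spec.map (CommRingCat.ofHom ρ) ≫ l = S.i₁) ∧
      (∀ L : Spec (CommRingCat.of S.R) ⟶ Y,
        Spec.map (CommRingCat.ofHom (algebraMap S.R S.K)) ≫ L = S.i₁ → L ≫ f = S.i₂ →
          ∃ l : Spec (CommRingCat.of R) ⟶ Y,
            Spec.map (CommRingCat.ofHom R.subtype) ≫ l = Y.fromSpecResidueField y ∧ l ≫ f = φ ∧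
            Spec.map (CommRingCat.ofHom ρ) ≫ l = L) := by
  obtain ⟨⟨y, g0⟩, hg0⟩ : ∃ p : Σ y : Y, Y.residueField y ⟶ CommRingCat.of S.K,
      Spec.map p.2 ≫ Y.fromSpecResidueField p.1 = S.i₁ :=
    ⟨Y.SpecToEquivOfField S.K S.i₁, (Y.SpecToEquivOfField S.K).symm_apply_apply S.i₁⟩
  let Rk : ValuationSubring S.K :=
    ⟨(algebraMap S.R S.K).range, fun x => by
      rcases ValuationRing.isInteger_or_isInteger S.R x with ⟨a, ha⟩ | ⟨a, ha⟩
      · exact Or.inl ⟨a, ha⟩
      · exact Or.inr ⟨a, ha⟩⟩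
  let e : S.R ≃+* Rk := RingEquiv.ofBijective (algebraMap S.R S.K).rangeRestrict
    ⟨fun a b h => IsFractionRing.injective S.R S.K (congrArg Subtype.val h),
      (algebraMap S.R S.K).rangeRestrict_surjective⟩
  have he : ∀ x : Rk, algebraMap S.R S.K (e.symm x) = x := fun x =>
    congrArg Subtype.val (e.apply_symm_apply x)
  have hee : CommRingCat.ofHom e.toRingHom ≫ CommRingCat.ofHom e.symm.toRingHom = 𝟙 _ := by
    ext x; exact e.symm_apply_apply x
  have hgen : Spec.map (CommRingCat.ofHom Rk.subtype) ≫ Spec.map (CommRingCat.ofHom e.toRingHom) =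
      Spec.map (CommRingCat.ofHom (algebraMap S.R S.K)) := by
    rw [← Spec.map_comp]; rfl
  have hT : ∀ {T : Scheme.{u}} (c : Spec (CommRingCat.of (Y.residueField y)) ⟶ T)
      (ψ : Spec (CommRingCat.of S.R) ⟶ T),
      Spec.map (CommRingCat.ofHom (algebraMap S.R S.K)) ≫ ψ = Spec.map g0 ≫ c →
      ∃! ψ' : Spec (CommRingCat.of (Rk.comap g0.hom : ValuationSubring (Y.residueField y))) ⟶ T,
        Spec.map (CommRingCat.ofHom (e.symm.toRingHom.comp (comapMap Rk g0.hom))) ≫ ψ' = ψ ∧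
        Spec.map (CommRingCat.ofHom (Rk.comap g0.hom).subtype) ≫ ψ' = c := by
    intro T c ψ hψ
    have hd := existsUnique_descent Rk (Spec.map (CommRingCat.ofHom e.toRingHom) ≫ ψ) g0.hom c
      (comapMap Rk g0.hom) (fun _ => rfl) (by rw [reassoc_of% hgen]; exact hψ)
    refine (existsUnique_congr fun ψ' => and_congr_left' ?_).1 hd
    constructor
    · intro h
      rw [CommRingCat.ofHom_comp, Spec.map_comp, Category.assoc, h, ← Spec.map_comp_assoc, hee,
        Spec.map_id, Category.id_comp]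
    · intro h
      rw [← h, ← Spec.map_comp_assoc]
      congr 2
      ext x
      exact congrArg Subtype.val (e.apply_symm_apply (comapMap Rk g0.hom x)).symm
  obtain ⟨φ, ⟨hφ1, hφ2⟩, hφu⟩ := hT (Y.fromSpecResidueField y ≫ f) S.i₂ (by
    rw [reassoc_of% hg0]; exact S.commSq.w.symm)
  refine ⟨y, Rk.comap g0.hom, e.symm.toRingHom.comp (comapMap Rk g0.hom), φ, hφ2, hφ1, fun l hl => ?_,
    fun L hL hLf => ?_⟩
  · rw [← hg0, ← hl, ← Spec.map_comp_assoc, ← Spec.map_comp_assoc]
    congr 2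
    ext x
    exact he (comapMap Rk g0.hom x)
  · obtain ⟨l, ⟨hl1, hl2⟩, -⟩ := hT (Y.fromSpecResidueField y) L (hL.trans hg0.symm)
    exact ⟨l, hl2, hφu _ ⟨by rw [reassoc_of% hl1, hLf], by rw [reassoc_of% hl2]⟩, hl1⟩

theorem uniqueness [QuasiCompact h] (hd : DenseRange h.base) (hU : RefUniq h f) :
    ValuativeCriterion.Uniqueness f := by
  intro S
  refine ⟨fun a b => ?_⟩
  obtain ⟨y, R, ρ, φ, _, _, _, hl⟩ := exists_point_square f S
  obtain ⟨l₁, a1, b1, c1⟩ := hl a.l a.fac_left a.fac_right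
  obtain ⟨l₂, a2, b2, c2⟩ := hl b.l b.fac_left b.fac_right
  refine CommSq.LiftStruct.ext ?_
  rw [← c1, ← c2, eq_at_point h f hd hU y R l₁ l₂ a1 a2 (b1.trans b2.symm)]

theorem existence [QuasiCompact h] (hd : DenseRange h.base) (hU : RefUniq h f) (hE : RefExist h f) :
    ValuativeCriterion.Existence f := by
  intro S
  obtain ⟨y, R, ρ, φ, w, hφ, hl, _⟩ := exists_point_square f S
  obtain ⟨l, a1, b1⟩ := exists_at_point h f hd hU hE y R φ w
  exact ⟨⟨⟨Spec.map (CommRingCat.ofHom ρ) ≫ l, hl l a1, by rw [Category.assoc, b1, hφ]⟩⟩⟩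

theorem refUniq_of_uniqueness (H : ValuativeCriterion.Uniqueness f) : RefUniq h f := by
  intro z R φ w φ₁ φ₂ a1 b1 a2 b2
  let S : ValuativeCommSq f := ⟨R, Z.residueField z, Z.fromSpecResidueField z ≫ h, φ,
    ⟨by rw [Category.assoc]; exact w.symm⟩⟩
  have := H S
  exact congrArg CommSq.LiftStruct.l
    (Subsingleton.elim (⟨φ₁, a1, b1⟩ : S.commSq.LiftStruct) ⟨φ₂, a2, b2⟩)

theorem refExist_of_existence (H : ValuativeCriterion.Existence f) : RefExist h f := by
  intro z R φ w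
  let S : ValuativeCommSq f := ⟨R, Z.residueField z, Z.fromSpecResidueField z ≫ h, φ,
    ⟨by rw [Category.assoc]; exact w.symm⟩⟩
  obtain ⟨⟨l⟩⟩ := H S
  exact ⟨l.l, l.fac_left, l.fac_right⟩

end Groth.Agent.ValCritLib
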